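import Groth.Agent.Lib.Helper2.Dual.Abstract
import Groth.Agent.Lib.Helper2.ExtShCoh.Restr
import Groth.Agent.Lib.Helper2.Stk.TensorAssoc
import Groth.Agent.Lib.Helper13.ModSiteUnitor
import Groth.Agent.Lib.Helper13.PerfFree

/-!
# `ℋom(L, -) ≅ - ⊗ L^∨` for a finite locally free module `L` on a scheme (helper2)
-/

set_option autoImplicit false
universe u
open CategoryTheory CategoryTheory.Limits AlgebraicGeometry TopologicalSpace Opposite

namespace Groth.Agent.Lib.Helper2.Dual

open Groth.Agent.Lib.Helper2.RHom Groth.Agent.Lib.Helper2.Mon Groth.Agent.Lib.Helper2.TAssoc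
  Groth.Agent.Lib.Helper2.ExtShCoh Groth.Agent.Lib.Helper2.Stk Groth.Agent.Lib.Helper13

variable (X : Scheme.{u})

/-- `(A, L) ↦ A ⊗ L` as a functor of `L` first -/
noncomputable abbrev TT : X.Modules ⥤ X.Modules ⥤ X.Modules := (ModSite.tensorBi X.sheaf).flip

/-- the internal hom -/
noncomputable abbrev HH (L : X.Modules) : X.Modules ⥤ X.Modules :=
  ModSite.sheafHom (O := X.sheaf) L

/-- the tensor-hom adjunction -/
noncomputable abbrev adjH (L : X.Modules) : (TT X).obj L ⊣ HH X L :=
  ModSite.sheafHomAdj (O := X.sheaf) L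

/-- the unit object -/
noncomputable abbrev OO : X.Modules := Coh.structureModule X

/-- the right unitor -/
noncomputable def rho : (TT X).obj (OO X) ≅ 𝟭 X.Modules := ModSiteUnitor.rightUnitorIso X.sheaf

/-- the associator -/
noncomputable def aa (D L : X.Modules) :
    (TT X).obj D ⋙ (TT X).obj L ≅ (TT X).obj (((TT X).obj L).obj D) :=
  NatIso.ofComponents (fun A => assocIso X.sheaf A D L) (fun f => assoc_naturality₁ X.sheaf f D L)

lemma aa_nat₁ {D D' : X.Modules} (d : D ⟶ D') (L A : X.Modules) :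
    ((TT X).obj L).map (((TT X).map d).app A) ≫ (aa X D' L).hom.app A =
      (aa X D L).hom.app A ≫ ((TT X).map (((TT X).obj L).map d)).app A :=
  assoc_naturality₂ X.sheaf A d L

lemma aa_nat₂ (D : X.Modules) {L L' : X.Modules} (f : L ⟶ L') (A : X.Modules) :
    ((TT X).map f).app (((TT X).obj D).obj A) ≫ (aa X D L').hom.app A =
      (aa X D L).hom.app A ≫ ((TT X).map (((TT X).map f).app D)).app A :=
  assoc_naturality₃ X.sheaf A D f

lemma TT_map_add {L L' : X.Modules} (f g : L ⟶ L') (A : X.Modules) :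
    ((TT X).map (f + g)).app A = ((TT X).map f).app A + ((TT X).map g).app A := by
  show ((DCoh.tensorBi (X := X)).obj A).map (f + g) =
    ((DCoh.tensorBi (X := X)).obj A).map f + ((DCoh.tensorBi (X := X)).obj A).map g
  exact Functor.map_add _

/-- the dual module -/
noncomputable abbrev dualM (L : X.Modules) : X.Modules := (HH X L).obj (OO X)

/-- the canonical map `A ⊗ L^∨ ⟶ ℋom(L, A)` -/
noncomputable def tauM (L : X.Modules) : (TT X).obj (dualM X L) ⟶ HH X L :=
  tau (TT X) (adjH X) (OO X) (rho X) (aa X) L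

variable {X}

attribute [local instance] Abelian.hasFiniteBiproducts

instance additive_HH (L : X.Modules) : (HH X L).Additive := ModSite.sheafHom_additive X.sheaf L

/-- base: the canonical map of the structure sheaf is invertible -/
theorem isIso_tauM_unit (A : X.Modules) : IsIso ((tauM X (OO X)).app A) :=
  isIso_tau_unit (TT X) (adjH X) (OO X) (rho X) (aa X) A

/-- the canonical map of a free module of finite rank is invertible -/
theorem isIso_tauM_freeMod (n : ℕ) (A : X.Modules) :
    IsIso ((tauM X (FlatMod.freeMod X n)).app A) := by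
  have h1 : IsIso ((tauM X (⨁ fun _ : Fin n => OO X)).app A) :=
    isIso_tau_of_isBilimit (TT X) (adjH X) (TT_map_add X) (OO X) (rho X) (aa X) (aa_nat₁ X)
      (aa_nat₂ X) (biproduct.bicone _) (biproduct.isBilimit _) A (fun _ => isIso_tauM_unit A)
  exact (isIso_tau_iff_of_iso (TT X) (adjH X) (OO X) (rho X) (aa X) (aa_nat₁ X) (aa_nat₂ X)
    (biproduct.isoCoproduct _) A).1 h1

variable (V : X.Opens)

/-- tensoring `j_!Z` with a morphism which is invertible over `V` -/
theorem isIso_whiskerLeft_jsh {L L' : X.Modules} (f : L ⟶ L') [IsIso ((jst V).map f)] :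
    IsIso (Functor.whiskerLeft (jsh V) ((TT X).map f)) := by
  haveI : ∀ Z, IsIso ((Functor.whiskerLeft (jsh V) ((TT X).map f)).app Z) := by
    intro Z
    have h := projIso_nat₂ V Z f
    haveI : IsIso (((tensorRes V).obj Z).map f) := by
      show IsIso (((DCoh.tensorBi (X := (V : Scheme.{u}))).obj Z).map ((jst V).map f))
      infer_instance
    let i := projIso V Z L ≪≫ (jsh V).mapIso (asIso (((tensorRes V).obj Z).map f)) ≪≫
      (projIso V Z L').symm
    have h' : (Functor.whiskerLeft (jsh V) ((TT X).map f)).app Z = i.hom := by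
      show _ = (projIso V Z L).hom ≫ (jsh V).map (((tensorRes V).obj Z).map f) ≫
          (projIso V Z L').inv
      rw [← Category.assoc, ← h, Category.assoc, Iso.hom_inv_id, Category.comp_id]
      rfl
    rw [h']
    exact Iso.isIso_hom i
  exact NatIso.isIso_of_isIso_app _

/-- `G ⊗ φ` is invertible over `V` if `φ` is -/
theorem isIso_jst_tensor {A B : X.Modules} (φ : A ⟶ B) [IsIso ((jst V).map φ)] (G : X.Modules) :
    IsIso ((jst V).map (((TT X).map φ).app G)) := by
  have h := resTensorIso'_nat₂ V.ι G φ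
  let i := (resTensorIso' V.ι G A).symm ≪≫
    ((DCoh.tensorBi (X := (V : Scheme.{u}))).obj ((jst V).obj G)).mapIso (asIso ((jst V).map φ)) ≪≫
      resTensorIso' V.ι G B
  have h' : (jst V).map (((TT X).map φ).app G) = i.hom := by
    show _ = (resTensorIso' V.ι G A).inv ≫
      ((DCoh.tensorBi (X := (V : Scheme.{u}))).obj ((jst V).obj G)).map ((jst V).map φ) ≫
        (resTensorIso' V.ι G B).hom
    rw [h, Iso.inv_hom_id_assoc]
    rfl
  rw [h']
  exact Iso.isIso_hom i

/-- the canonical map is invertible over an open where `L` is free -/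
theorem isIso_jst_tauM_of_free (L : X.Modules) (n : ℕ)
    (e : (jst V).obj L ≅ FlatMod.freeMod (V : Scheme.{u}) n) (A : X.Modules) :
    IsIso ((jst V).map ((tauM X L).app A)) := by
  let M : X.Modules := (jsh V).obj ((jst V).obj L)
  let f₁ : M ⟶ L := (adjV V).counit.app L
  let f₂ : M ⟶ FlatMod.freeMod X n :=
    (jsh V).map (e.hom ≫ (PerfFree.restrictFreeModIso V.ι n).inv) ≫
      (adjV V).counit.app (FlatMod.freeMod X n)
  haveI h₁ : IsIso ((jst V).map f₁) := isIso_restrict_counit V L
  haveI h₂ : IsIso ((jst V).map f₂) := by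
    show IsIso ((jst V).map (_ ≫ _))
    rw [Functor.map_comp]
    infer_instance
  have key : ∀ {L₁ L₂ : X.Modules} (f : L₁ ⟶ L₂) [IsIso ((jst V).map f)],
      IsIso ((jst V).map ((tauM X L₁).app A)) ↔ IsIso ((jst V).map ((tauM X L₂).app A)) := by
    intro L₁ L₂ f hf
    haveI := isIso_whiskerLeft_jsh V f
    have hH : ∀ B, IsIso ((jst V).map ((Hmap (TT X) (adjH X) f).app B)) := fun B =>
      isIso_map_Hmap (TT X) (adjH X) (adjV V) f B
    haveI := hH (OO X)
    exact isIso_map_tau_iff (TT X) (adjH X) (OO X) (rho X) (aa X) (aa_nat₁ X) (aa_nat₂ X) f A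
      (hH A) (isIso_jst_tensor V _ A)
  have h3 : IsIso ((jst V).map ((tauM X (FlatMod.freeMod X n)).app A)) := by
    haveI := isIso_tauM_freeMod (X := X) n A
    infer_instance
  exact (key f₁).1 ((key f₂).2 h3)

/-- the canonical map `A ⊗ L^∨ ⟶ ℋom(L, A)` is invertible for `L` finite locally free -/
theorem isIso_tauM_app (L : X.Modules) (hL : FlatMod.IsFinLocFree L) (A : X.Modules) :
    IsIso ((tauM X L).app A) := by
  haveI : ∀ x : X, IsIso ((Φ x).map ((tauM X L).app A)) := by
    intro x
    obtain ⟨V, n, hx, ⟨e⟩⟩ := hL x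
    haveI := isIso_jst_tauM_of_free V L n e A
    exact isIso_stalk_of_isIso_restrict V _ ⟨x, hx⟩
  exact jointlyReflectIsomorphisms_Φ.isIso _

theorem isIso_tauM (L : X.Modules) (hL : FlatMod.IsFinLocFree L) : IsIso (tauM X L) :=
  haveI := isIso_tauM_app L hL
  NatIso.isIso_of_isIso_app _

/-- `- ⊗ L^∨ ≅ ℋom(L, -)` for `L` finite locally free -/
noncomputable def dualIso (L : X.Modules) (hL : FlatMod.IsFinLocFree L) :
    (TT X).obj (dualM X L) ≅ HH X L :=
  haveI := isIso_tauM L hL
  asIso (tauM X L)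

end Groth.Agent.Lib.Helper2.Dual
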