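import Groth.Agent.Lib.Helper2.Dual.Sheaf
import Groth.Agent.Lib.Helper2.Mon.TensorSymm
import Groth.Agent.Lib.Helper13.ProjFormulaLF
import Groth.Agent.Lib.Helper13.DerivedCommuteNat
import Groth.Agent.Lib.Helper13.ExtAdj
import Groth.Prelude.Def_ModSite2

/-!
# Consequences of `ℋom(L, -) ≅ - ⊗ L^∨` for the local Ext sheaves (helper2)

* `sheafHomTensorIso P Q : ℋom(P ⊗ Q, -) ≅ ℋom(Q, -) ⋙ ℋom(P, -)`.
* `extShTensorDualIso F L hL q : ℰxt^q(L ⊗ F, -) ≅ ℰxt^q(F, -) ⊗ L^∨`.
-/

set_option autoImplicit false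
universe u
open CategoryTheory CategoryTheory.Limits AlgebraicGeometry TopologicalSpace Opposite

namespace Groth.Agent.Lib.Helper2.Dual

open Groth.Agent.Lib.Helper2.RHom Groth.Agent.Lib.Helper2.Mon Groth.Agent.Lib.Helper2.TAssoc
  Groth.Agent.Lib.Helper2.ExtShCoh Groth.Agent.Lib.Helper2.Stk Groth.Agent.Lib.Helper13

variable {X : Scheme.{u}}

/-- `ℋom(P ⊗ Q, -) ≅ ℋom(Q, -) ⋙ ℋom(P, -)` -/
noncomputable def sheafHomTensorIso (P Q : X.Modules) :
    HH X (((TT X).obj Q).obj P) ≅ HH X Q ⋙ HH X P :=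
  ((adjH X (((TT X).obj Q).obj P)).ofNatIsoLeft (aa X P Q).symm).rightAdjointUniq
    ((adjH X P).comp (adjH X Q))

/-- the internal hom only depends on the isomorphism class of the first variable -/
noncomputable def sheafHomIsoOfIso {M M' : X.Modules} (e : M ≅ M') : HH X M ≅ HH X M' :=
  asIso (Hmap (TT X) (adjH X) e.inv)

instance additive_TT_obj (E : X.Modules) : ((TT X).obj E).Additive :=
  ModSiteFlatSES.additive_flip (O := OX X) E

instance pfc_TT_obj (E : X.Modules) : PreservesFiniteColimits ((TT X).obj E) :=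
  ModSiteFlat.preservesFiniteColimits_flip (OX X) E

instance pfl_HH (L : X.Modules) : PreservesFiniteLimits (HH X L) := by
  haveI : PreservesLimitsOfSize.{0, 0} (HH X L) := (adjH X L).rightAdjoint_preservesLimits
  exact PreservesLimitsOfSize.preservesFiniteLimits _

/-- `- ⊗ L^∨` is left exact for `L` finite locally free -/
theorem pfl_TT_dual (L : X.Modules) (hL : FlatMod.IsFinLocFree L) :
    PreservesFiniteLimits ((TT X).obj (dualM X L)) :=
  preservesFiniteLimits_of_natIso (dualIso L hL).symm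

/-- `ℋom(L, -)` is right exact for `L` finite locally free -/
theorem pfc_HH (L : X.Modules) (hL : FlatMod.IsFinLocFree L) :
    PreservesFiniteColimits (HH X L) :=
  preservesFiniteColimits_of_natIso (dualIso L hL)

/-- `- ⊗ L` is left exact for `L` finite locally free -/
theorem pfl_TT (L : X.Modules) (hL : FlatMod.IsFinLocFree L) :
    PreservesFiniteLimits ((TT X).obj L) := by
  haveI := ProjFormulaLF.pfl_TL L hL
  exact preservesFiniteLimits_of_natIso (ProjFormulaLF.braidIso L)

/-- `ℰxt^q(L ⊗ F, -) ≅ ℰxt^q(F, -) ⊗ L^∨` for `L` finite locally free -/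
noncomputable def extShTensorDualIso (F L : X.Modules) (hL : FlatMod.IsFinLocFree L)
    [HasInjectiveResolutions X.Modules] (q : ℕ) :
    (HH X (((TT X).obj F).obj L)).rightDerived q ≅
      (HH X F).rightDerived q ⋙ (TT X).obj (dualM X L) :=
  haveI := pfl_TT_dual L hL
  DerivedCommute.rightDerivedIsoOfNatIso
      (sheafHomTensorIso L F ≪≫ Functor.isoWhiskerLeft (HH X F) (dualIso L hL).symm) q ≪≫
    DerivedCommute.rightDerivedCompExactIso (HH X F) ((TT X).obj (dualM X L)) q

end Groth.Agent.Lib.Helper2.Dual
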