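import Mathlib

/-!
# Duals in a "closed tensor category without coherence" (helper2)

Abstract setting: a category `C`, a bifunctor `T : C ⥤ C ⥤ C` (`(T.obj L).obj A = A ⊗ L`), right adjoints
`H L` of `T.obj L`, a unit object `O` with `ρ : - ⊗ O ≅ 𝟭`, and an associator
`a D L : (- ⊗ D) ⊗ L ≅ - ⊗ (D ⊗ L)` natural in `D` and `L`.  No coherence is assumed.

* `Hmap f : H L' ⟶ H L` for `f : L ⟶ L'` (contravariant functoriality, by conjugation).
* `tau L : - ⊗ H L O ⟶ H L`, the canonical map, and its dinaturality `tau_dinat`.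
* `isIso_tau_unit`, `isIso_tau_of_isBilimit` : `tau` is invertible on finite sums of copies of the unit.
* `isIso_map_Hmap`, `isIso_map_tau_iff` : localisation along an adjoint pair `S ⊣ R`.
-/

set_option autoImplicit false
universe v u v' u'
open CategoryTheory CategoryTheory.Limits

namespace Groth.Agent.Lib.Helper2.Dual

section Basic

variable {C : Type u} [Category.{v} C] (T : C ⥤ C ⥤ C) {H : C → C ⥤ C} (adj : ∀ L, T.obj L ⊣ H L)

/-- contravariant functoriality of the right adjoints -/
noncomputable def Hmap {L L' : C} (f : L ⟶ L') : H L' ⟶ H L :=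
  conjugateEquiv (adj L') (adj L) (T.map f)

lemma Hmap_counit {L L' : C} (f : L ⟶ L') (B : C) :
    (T.obj L).map ((Hmap T adj f).app B) ≫ (adj L).counit.app B =
      (T.map f).app ((H L').obj B) ≫ (adj L').counit.app B :=
  conjugateEquiv_counit (adj L') (adj L) (T.map f) B

lemma Hmap_id (L : C) : Hmap T adj (𝟙 L) = 𝟙 (H L) := by
  unfold Hmap
  rw [T.map_id]
  exact conjugateEquiv_id _

lemma Hmap_comp {L L' L'' : C} (f : L ⟶ L') (g : L' ⟶ L'') :
    Hmap T adj (f ≫ g) = Hmap T adj g ≫ Hmap T adj f := by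
  unfold Hmap
  rw [T.map_comp, conjugateEquiv_comp]

lemma Hmap_app {L L' : C} (f : L ⟶ L') (B : C) :
    (Hmap T adj f).app B = (adj L).unit.app ((H L').obj B) ≫
      (H L).map ((T.map f).app ((H L').obj B)) ≫ (H L).map ((adj L').counit.app B) := by
  unfold Hmap
  rw [conjugateEquiv_apply_app]

instance isIso_Hmap {L L' : C} (f : L ⟶ L') [IsIso f] : IsIso (Hmap T adj f) := by
  unfold Hmap
  infer_instance

variable (O : C) (ρ : T.obj O ≅ 𝟭 C) (a : ∀ D L : C, T.obj D ⋙ T.obj L ≅ T.obj ((T.obj L).obj D))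

/-- the dual of `L` -/
abbrev dual (_ : ∀ L, T.obj L ⊣ H L) (O : C) (L : C) : C := (H L).obj O

/-- the dual of a morphism -/
noncomputable abbrev dualMap {L L' : C} (f : L ⟶ L') : dual T adj O L' ⟶ dual T adj O L :=
  (Hmap T adj f).app O

/-- the evaluation `L^∨ ⊗ L ⟶ O` -/
noncomputable def ev (L : C) : (T.obj L).obj (dual T adj O L) ⟶ O := (adj L).counit.app O

/-- `(A ⊗ L^∨) ⊗ L ⟶ A` -/
noncomputable def beta (L : C) : T.obj (dual T adj O L) ⋙ T.obj L ⟶ 𝟭 C :=
  (a (dual T adj O L) L).hom ≫ T.map (ev T adj O L) ≫ ρ.hom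

/-- the canonical map `A ⊗ L^∨ ⟶ Hom(L, A)` -/
noncomputable def tau (L : C) : T.obj (dual T adj O L) ⟶ H L where
  app A := (adj L).homEquiv _ _ ((beta T adj O ρ a L).app A)
  naturality A A' k := by
    rw [← Adjunction.homEquiv_naturality_left, ← Adjunction.homEquiv_naturality_right]
    congr 1
    exact (beta T adj O ρ a L).naturality k

lemma tau_transpose (L : C) (A : C) :
    (T.obj L).map ((tau T adj O ρ a L).app A) ≫ (adj L).counit.app A =
      (beta T adj O ρ a L).app A := by
  have h := (adj L).homEquiv_counit (g := (tau T adj O ρ a L).app A)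
  rw [← h]
  exact ((adj L).homEquiv _ _).symm_apply_apply _

variable (ha₁ : ∀ {D D' : C} (d : D ⟶ D') (L A : C),
    (T.obj L).map ((T.map d).app A) ≫ (a D' L).hom.app A =
      (a D L).hom.app A ≫ (T.map ((T.obj L).map d)).app A)
  (ha₂ : ∀ (D : C) {L L' : C} (f : L ⟶ L') (A : C),
    (T.map f).app ((T.obj D).obj A) ≫ (a D L').hom.app A =
      (a D L).hom.app A ≫ (T.map ((T.map f).app D)).app A)

include ha₁ ha₂ in
/-- dinaturality of the canonical map -/
theorem tau_dinat {L L' : C} (f : L ⟶ L') (A : C) :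
    (T.map (dualMap T adj O f)).app A ≫ (tau T adj O ρ a L).app A =
      (tau T adj O ρ a L').app A ≫ (Hmap T adj f).app A := by
  apply ((adj L).homEquiv _ _).symm.injective
  rw [Adjunction.homEquiv_counit, Adjunction.homEquiv_counit, Functor.map_comp, Functor.map_comp,
    Category.assoc, Category.assoc, tau_transpose, Hmap_counit]
  have h1 := (T.map f).naturality ((tau T adj O ρ a L').app A)
  rw [reassoc_of% h1, tau_transpose]
  have key : (T.obj L).map (dualMap T adj O f) ≫ ev T adj O L =
      (T.map f).app (dual T adj O L') ≫ ev T adj O L' := Hmap_counit T adj f O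
  have e : (T.map ((T.obj L).map (dualMap T adj O f))).app A ≫ (T.map (ev T adj O L)).app A =
      (T.map ((T.map f).app (dual T adj O L'))).app A ≫ (T.map (ev T adj O L')).app A := by
    rw [← NatTrans.comp_app, ← NatTrans.comp_app, ← T.map_comp, ← T.map_comp, key]
  unfold beta
  simp only [NatTrans.comp_app]
  rw [reassoc_of% (ha₁ (dualMap T adj O f) L A), reassoc_of% (ha₂ (dual T adj O L') f A),
    reassoc_of% e]

/-- the canonical map for the unit object is invertible -/
theorem isIso_tau_unit (A : C) : IsIso ((tau T adj O ρ a O).app A) := by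
  haveI h0 : (T.obj O).IsEquivalence := Functor.isEquivalence_of_iso ρ.symm
  haveI h1 : (H O).IsEquivalence := (adj O).isEquivalence_right_of_isEquivalence_left
  haveI h2 : IsIso (adj O).counit := inferInstance
  haveI h3 : IsIso (ev T adj O O) := by unfold ev; infer_instance
  haveI h4 : IsIso ((beta T adj O ρ a O).app A) := by
    unfold beta
    simp only [NatTrans.comp_app]
    infer_instance
  have h := tau_transpose T adj O ρ a O A
  haveI h5 : IsIso ((T.obj O).map ((tau T adj O ρ a O).app A)) := by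
    have : (T.obj O).map ((tau T adj O ρ a O).app A) =
        (beta T adj O ρ a O).app A ≫ inv ((adj O).counit.app A) := by
      rw [← h, Category.assoc, IsIso.hom_inv_id, Category.comp_id]
    rw [this]
    infer_instance
  exact isIso_of_reflects_iso _ (T.obj O)

end Basic

section Additive

variable {C : Type u} [Category.{v} C] [Preadditive C] (T : C ⥤ C ⥤ C) {H : C → C ⥤ C}
  (adj : ∀ L, T.obj L ⊣ H L) [∀ L, (H L).Additive]
  (hT : ∀ {L L' : C} (f g : L ⟶ L') (A : C), (T.map (f + g)).app A = (T.map f).app A + (T.map g).app A)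

include hT in
lemma Hmap_add {L L' : C} (f g : L ⟶ L') (B : C) :
    (Hmap T adj (f + g)).app B = (Hmap T adj f).app B + (Hmap T adj g).app B := by
  rw [Hmap_app, Hmap_app, Hmap_app, hT, Functor.map_add, Preadditive.add_comp,
    Preadditive.comp_add]

include hT in
/-- `f ↦ (Hmap f).app B` as an additive map -/
noncomputable def HmapAdd (L L' B : C) : (L ⟶ L') →+ ((H L').obj B ⟶ (H L).obj B) :=
  AddMonoidHom.mk' (fun f => (Hmap T adj f).app B) (fun f g => Hmap_add T adj hT f g B)

include hT in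
lemma Hmap_sum {J : Type*} (s : Finset J) {L L' : C} (f : J → (L ⟶ L')) (B : C) :
    (Hmap T adj (∑ j ∈ s, f j)).app B = ∑ j ∈ s, (Hmap T adj (f j)).app B :=
  map_sum (HmapAdd T adj hT L L' B) f s

variable (O : C) (ρ : T.obj O ≅ 𝟭 C) (a : ∀ D L : C, T.obj D ⋙ T.obj L ≅ T.obj ((T.obj L).obj D))
  (ha₁ : ∀ {D D' : C} (d : D ⟶ D') (L A : C),
    (T.obj L).map ((T.map d).app A) ≫ (a D' L).hom.app A =
      (a D L).hom.app A ≫ (T.map ((T.obj L).map d)).app A)
  (ha₂ : ∀ (D : C) {L L' : C} (f : L ⟶ L') (A : C),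
    (T.map f).app ((T.obj D).obj A) ≫ (a D L').hom.app A =
      (a D L).hom.app A ≫ (T.map ((T.map f).app D)).app A)

include hT in
/-- `f ↦ A ⊗ f^∨` as an additive map -/
noncomputable def TdualAdd (L L' A : C) :
    (L ⟶ L') →+ ((T.obj (dual T adj O L')).obj A ⟶ (T.obj (dual T adj O L)).obj A) :=
  AddMonoidHom.mk' (fun f => (T.map (dualMap T adj O f)).app A) (fun f g => by
    show (T.map ((Hmap T adj (f + g)).app O)).app A = _
    rw [Hmap_add T adj hT, hT])

include hT ha₁ ha₂ in
/-- the canonical map is invertible on finite biproducts if it is on each summand -/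
theorem isIso_tau_of_isBilimit {J : Type} [Fintype J] {F : J → C} (b : Bicone F) (hb : b.IsBilimit)
    (A : C) (h : ∀ j, IsIso ((tau T adj O ρ a (F j)).app A)) :
    IsIso ((tau T adj O ρ a b.pt).app A) := by
  classical
  have htot : ∑ j : J, b.π j ≫ b.ι j = 𝟙 b.pt := Limits.IsBilimit.total hb
  let ψ : (H b.pt).obj A ⟶ (T.obj (dual T adj O b.pt)).obj A :=
    ∑ j : J, (Hmap T adj (b.ι j)).app A ≫ inv ((tau T adj O ρ a (F j)).app A) ≫
      (T.map (dualMap T adj O (b.π j))).app A
  refine ⟨ψ, ?_, ?_⟩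
  · show _ ≫ (∑ j : J, _) = _
    rw [Preadditive.comp_sum]
    have : ∀ j : J, (tau T adj O ρ a b.pt).app A ≫ (Hmap T adj (b.ι j)).app A ≫
        inv ((tau T adj O ρ a (F j)).app A) ≫ (T.map (dualMap T adj O (b.π j))).app A =
        (TdualAdd T adj hT O b.pt b.pt A) (b.π j ≫ b.ι j) := by
      intro j
      rw [← Category.assoc, ← tau_dinat T adj O ρ a ha₁ ha₂ (b.ι j) A, Category.assoc,
        IsIso.hom_inv_id_assoc]
      show _ = (T.map ((Hmap T adj (b.π j ≫ b.ι j)).app O)).app A
      rw [Hmap_comp, NatTrans.comp_app, Functor.map_comp, NatTrans.comp_app]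
    rw [Finset.sum_congr rfl (fun j _ => this j), ← map_sum, htot]
    show (T.map ((Hmap T adj (𝟙 b.pt)).app O)).app A = _
    rw [Hmap_id, NatTrans.id_app, CategoryTheory.Functor.map_id, NatTrans.id_app]
  · show (∑ j : J, _) ≫ _ = _
    rw [Preadditive.sum_comp]
    have : ∀ j : J, ((Hmap T adj (b.ι j)).app A ≫ inv ((tau T adj O ρ a (F j)).app A) ≫
        (T.map (dualMap T adj O (b.π j))).app A) ≫ (tau T adj O ρ a b.pt).app A =
        (HmapAdd T adj hT b.pt b.pt A) (b.π j ≫ b.ι j) := by
      intro j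
      rw [Category.assoc, Category.assoc, tau_dinat T adj O ρ a ha₁ ha₂ (b.π j) A,
        IsIso.inv_hom_id_assoc]
      show _ = (Hmap T adj (b.π j ≫ b.ι j)).app A
      rw [Hmap_comp, NatTrans.comp_app]
    rw [Finset.sum_congr rfl (fun j _ => this j), ← map_sum, htot]
    show (Hmap T adj (𝟙 b.pt)).app A = _
    rw [Hmap_id, NatTrans.id_app]

end Additive

section Local

variable {C : Type u} [Category.{v} C] (T : C ⥤ C ⥤ C) {H : C → C ⥤ C} (adj : ∀ L, T.obj L ⊣ H L)
  {C' : Type u'} [Category.{v'} C'] {R : C ⥤ C'} {S : C' ⥤ C} (adjSR : S ⊣ R)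

include adjSR in
/-- if `f : L ⟶ L'` becomes invertible after `S(-) ⊗ ?`, then `R (Hmap f)` is invertible -/
theorem isIso_map_Hmap {L L' : C} (f : L ⟶ L') [IsIso (Functor.whiskerLeft S (T.map f))] (B : C) :
    IsIso (R.map ((Hmap T adj f).app B)) := by
  have h := conjugateEquiv_whiskerLeft (adj L') (adj L) adjSR (T.map f)
  haveI : IsIso (Functor.whiskerRight (Hmap T adj f) R) := by
    unfold Hmap
    rw [← h]
    infer_instance
  have : R.map ((Hmap T adj f).app B) = (Functor.whiskerRight (Hmap T adj f) R).app B := rfl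
  rw [this]
  infer_instance

variable (O : C) (ρ : T.obj O ≅ 𝟭 C) (a : ∀ D L : C, T.obj D ⋙ T.obj L ≅ T.obj ((T.obj L).obj D))
  (ha₁ : ∀ {D D' : C} (d : D ⟶ D') (L A : C),
    (T.obj L).map ((T.map d).app A) ≫ (a D' L).hom.app A =
      (a D L).hom.app A ≫ (T.map ((T.obj L).map d)).app A)
  (ha₂ : ∀ (D : C) {L L' : C} (f : L ⟶ L') (A : C),
    (T.map f).app ((T.obj D).obj A) ≫ (a D L').hom.app A =
      (a D L).hom.app A ≫ (T.map ((T.map f).app D)).app A)

include ha₁ ha₂ in
/-- along a morphism `f : L ⟶ L'` which is "locally invertible", the canonical maps of `L` and `L'`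
are locally invertible simultaneously -/
theorem isIso_map_tau_iff {L L' : C} (f : L ⟶ L') (A : C)
    (h1 : IsIso (R.map ((Hmap T adj f).app A)))
    (h2 : IsIso (R.map ((T.map (dualMap T adj O f)).app A))) :
    IsIso (R.map ((tau T adj O ρ a L).app A)) ↔ IsIso (R.map ((tau T adj O ρ a L').app A)) := by
  have h := congrArg R.map (tau_dinat T adj O ρ a ha₁ ha₂ f A)
  rw [Functor.map_comp, Functor.map_comp] at h
  constructor
  · intro h3
    have : R.map ((tau T adj O ρ a L').app A) =
        (R.map ((T.map (dualMap T adj O f)).app A) ≫ R.map ((tau T adj O ρ a L).app A)) ≫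
          inv (R.map ((Hmap T adj f).app A)) := by
      rw [h, Category.assoc, IsIso.hom_inv_id, Category.comp_id]
    rw [this]
    infer_instance
  · intro h3
    have : R.map ((tau T adj O ρ a L).app A) =
        inv (R.map ((T.map (dualMap T adj O f)).app A)) ≫
          R.map ((tau T adj O ρ a L').app A) ≫ R.map ((Hmap T adj f).app A) := by
      rw [← h, IsIso.inv_hom_id_assoc]
    rw [this]
    infer_instance

include ha₁ ha₂ in
/-- the canonical maps of isomorphic objects are invertible simultaneously -/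
theorem isIso_tau_iff_of_iso {L L' : C} (e : L ≅ L') (A : C) :
    IsIso ((tau T adj O ρ a L).app A) ↔ IsIso ((tau T adj O ρ a L').app A) := by
  have h1 : IsIso ((𝟭 C).map ((Hmap T adj e.hom).app A)) := by
    rw [Functor.id_map]; infer_instance
  have h2 : IsIso ((𝟭 C).map ((T.map (dualMap T adj O e.hom)).app A)) := by
    rw [Functor.id_map]; infer_instance
  have h := isIso_map_tau_iff (R := 𝟭 C) T adj O ρ a ha₁ ha₂ e.hom A h1 h2
  rwa [Functor.id_map, Functor.id_map] at h

end Local

end Groth.Agent.Lib.Helper2.Dual
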