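import Groth.Agent.Lib.Helper2.Dual.Abstract

/-!
# The canonical map to the double dual, abstractly (helper2)

In the setting of `Dual.Abstract`, with in addition a braiding `s A B : A ⊗ B ≅ B ⊗ A` (natural in both
variables, no coherence assumed): `kappa L : L ⟶ L^∨∨`, natural in `L`; it is invertible for the unit
object, on finite biproducts, and this can be checked locally.
-/

set_option autoImplicit false
universe v u v' u'
open CategoryTheory CategoryTheory.Limits

namespace Groth.Agent.Lib.Helper2.Dual

section Basic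

variable {C : Type u} [Category.{v} C] (T : C ⥤ C ⥤ C) {H : C → C ⥤ C} (adj : ∀ L, T.obj L ⊣ H L)
  (O : C) (s : ∀ A B : C, (T.obj B).obj A ≅ (T.obj A).obj B)

/-- the double dual of a morphism -/
noncomputable abbrev ddualMap {L L' : C} (f : L ⟶ L') :
    dual T adj O (dual T adj O L) ⟶ dual T adj O (dual T adj O L') :=
  dualMap T adj O (dualMap T adj O f)

/-- the canonical map `L ⟶ L^∨∨` -/
noncomputable def kappa (L : C) : L ⟶ dual T adj O (dual T adj O L) :=
  (adj (dual T adj O L)).homEquiv L O ((s L (dual T adj O L)).hom ≫ ev T adj O L)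

lemma kappa_transpose (L : C) :
    (T.obj (dual T adj O L)).map (kappa T adj O s L) ≫ (adj (dual T adj O L)).counit.app O =
      (s L (dual T adj O L)).hom ≫ ev T adj O L := by
  have h := (adj (dual T adj O L)).homEquiv_counit (g := kappa T adj O s L)
  rw [← h]
  exact ((adj (dual T adj O L)).homEquiv _ _).symm_apply_apply _

variable (hs₁ : ∀ {A A' : C} (f : A ⟶ A') (B : C),
    (T.obj B).map f ≫ (s A' B).hom = (s A B).hom ≫ (T.map f).app B)
  (hs₂ : ∀ (A : C) {B B' : C} (g : B ⟶ B'),
    (T.map g).app A ≫ (s A B').hom = (s A B).hom ≫ (T.obj A).map g)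

include hs₁ hs₂ in
/-- naturality of the canonical map to the double dual -/
theorem kappa_naturality {L L' : C} (f : L ⟶ L') :
    kappa T adj O s L ≫ ddualMap T adj O f = f ≫ kappa T adj O s L' := by
  apply ((adj (dual T adj O L')).homEquiv _ _).symm.injective
  rw [Adjunction.homEquiv_counit, Adjunction.homEquiv_counit, Functor.map_comp, Functor.map_comp,
    Category.assoc, Category.assoc, kappa_transpose]
  have e1 := Hmap_counit T adj (dualMap T adj O f) O
  rw [e1]
  have e2 := (T.map (dualMap T adj O f)).naturality (kappa T adj O s L)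
  rw [reassoc_of% e2, kappa_transpose, reassoc_of% (hs₂ L (dualMap T adj O f)),
    reassoc_of% (hs₁ f (dual T adj O L'))]
  congr 1
  exact Hmap_counit T adj f O

variable (ρ : T.obj O ≅ 𝟭 C)

include ρ in
/-- the canonical map to the double dual of the unit object is invertible -/
theorem isIso_kappa_unit : IsIso (kappa T adj O s O) := by
  haveI h0 : (T.obj O).IsEquivalence := Functor.isEquivalence_of_iso ρ.symm
  haveI h1 : (H O).IsEquivalence := (adj O).isEquivalence_right_of_isEquivalence_left
  haveI h2 : IsIso (adj O).counit := inferInstance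
  haveI h3 : IsIso (ev T adj O O) := by unfold ev; infer_instance
  let e : dual T adj O O ≅ O := (ρ.app (dual T adj O O)).symm ≪≫ asIso (ev T adj O O)
  haveI h4 : (T.obj (dual T adj O O)).IsEquivalence :=
    Functor.isEquivalence_of_iso (T.mapIso e ≪≫ ρ).symm
  haveI h5 : (H (dual T adj O O)).IsEquivalence :=
    (adj (dual T adj O O)).isEquivalence_right_of_isEquivalence_left
  haveI h6 : IsIso (adj (dual T adj O O)).unit := inferInstance
  unfold kappa
  rw [Adjunction.homEquiv_unit]
  infer_instance

end Basic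

section Additive

variable {C : Type u} [Category.{v} C] [Preadditive C] (T : C ⥤ C ⥤ C) {H : C → C ⥤ C}
  (adj : ∀ L, T.obj L ⊣ H L) [∀ L, (H L).Additive]
  (hT : ∀ {L L' : C} (f g : L ⟶ L') (A : C), (T.map (f + g)).app A = (T.map f).app A + (T.map g).app A)
  (O : C) (s : ∀ A B : C, (T.obj B).obj A ≅ (T.obj A).obj B)
  (hs₁ : ∀ {A A' : C} (f : A ⟶ A') (B : C),
    (T.obj B).map f ≫ (s A' B).hom = (s A B).hom ≫ (T.map f).app B)
  (hs₂ : ∀ (A : C) {B B' : C} (g : B ⟶ B'),
    (T.map g).app A ≫ (s A B').hom = (s A B).hom ≫ (T.obj A).map g)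

include hT in
/-- `f ↦ f^∨∨` as an additive map -/
noncomputable def ddualAdd (L L' : C) :
    (L ⟶ L') →+ (dual T adj O (dual T adj O L) ⟶ dual T adj O (dual T adj O L')) :=
  (HmapAdd T adj hT (dual T adj O L') (dual T adj O L) O).comp (HmapAdd T adj hT L L' O)

include hT hs₁ hs₂ in
/-- the canonical map to the double dual is invertible on finite biproducts if it is on each summand -/
theorem isIso_kappa_of_isBilimit {J : Type} [Fintype J] {F : J → C} (b : Bicone F) (hb : b.IsBilimit)
    (h : ∀ j, IsIso (kappa T adj O s (F j))) : IsIso (kappa T adj O s b.pt) := by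
  classical
  have htot : ∑ j : J, b.π j ≫ b.ι j = 𝟙 b.pt := Limits.IsBilimit.total hb
  let ψ : dual T adj O (dual T adj O b.pt) ⟶ b.pt :=
    ∑ j : J, ddualMap T adj O (b.π j) ≫ inv (kappa T adj O s (F j)) ≫ b.ι j
  refine ⟨ψ, ?_, ?_⟩
  · show _ ≫ (∑ j : J, _) = _
    rw [Preadditive.comp_sum, ← htot]
    refine Finset.sum_congr rfl (fun j _ => ?_)
    rw [← Category.assoc, kappa_naturality T adj O s hs₁ hs₂ (b.π j), Category.assoc,
      IsIso.hom_inv_id_assoc]
  · show (∑ j : J, _) ≫ _ = _
    rw [Preadditive.sum_comp]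
    have : ∀ j : J, (ddualMap T adj O (b.π j) ≫ inv (kappa T adj O s (F j)) ≫ b.ι j) ≫
        kappa T adj O s b.pt = (ddualAdd T adj hT O b.pt b.pt) (b.π j ≫ b.ι j) := by
      intro j
      rw [Category.assoc, Category.assoc, ← kappa_naturality T adj O s hs₁ hs₂ (b.ι j),
        IsIso.inv_hom_id_assoc]
      show _ = (Hmap T adj ((Hmap T adj (b.π j ≫ b.ι j)).app O)).app O
      rw [Hmap_comp, NatTrans.comp_app, Hmap_comp, NatTrans.comp_app]
    rw [Finset.sum_congr rfl (fun j _ => this j), ← map_sum, htot]
    show (Hmap T adj ((Hmap T adj (𝟙 b.pt)).app O)).app O = _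
    rw [Hmap_id, NatTrans.id_app, Hmap_id, NatTrans.id_app]

end Additive

section Local

variable {C : Type u} [Category.{v} C] (T : C ⥤ C ⥤ C) {H : C → C ⥤ C} (adj : ∀ L, T.obj L ⊣ H L)
  {C' : Type u'} [Category.{v'} C'] {R : C ⥤ C'}
  (O : C) (s : ∀ A B : C, (T.obj B).obj A ≅ (T.obj A).obj B)
  (hs₁ : ∀ {A A' : C} (f : A ⟶ A') (B : C),
    (T.obj B).map f ≫ (s A' B).hom = (s A B).hom ≫ (T.map f).app B)
  (hs₂ : ∀ (A : C) {B B' : C} (g : B ⟶ B'),
    (T.map g).app A ≫ (s A B').hom = (s A B).hom ≫ (T.obj A).map g)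

include hs₁ hs₂ in
/-- along a "locally invertible" morphism, the canonical maps to the double duals are locally
invertible simultaneously -/
theorem isIso_map_kappa_iff {L L' : C} (f : L ⟶ L') (h1 : IsIso (R.map f))
    (h2 : IsIso (R.map (ddualMap T adj O f))) :
    IsIso (R.map (kappa T adj O s L)) ↔ IsIso (R.map (kappa T adj O s L')) := by
  have h := congrArg R.map (kappa_naturality T adj O s hs₁ hs₂ f)
  rw [Functor.map_comp, Functor.map_comp] at h
  constructor
  · intro h3
    have : R.map (kappa T adj O s L') =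
        inv (R.map f) ≫ R.map (kappa T adj O s L) ≫ R.map (ddualMap T adj O f) := by
      rw [h, IsIso.inv_hom_id_assoc]
    rw [this]
    infer_instance
  · intro h3
    have : R.map (kappa T adj O s L) =
        (R.map f ≫ R.map (kappa T adj O s L')) ≫ inv (R.map (ddualMap T adj O f)) := by
      rw [← h, Category.assoc, IsIso.hom_inv_id, Category.comp_id]
    rw [this]
    infer_instance

include hs₁ hs₂ in
/-- the canonical maps to the double duals of isomorphic objects are invertible simultaneously -/
theorem isIso_kappa_iff_of_iso {L L' : C} (e : L ≅ L') :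
    IsIso (kappa T adj O s L) ↔ IsIso (kappa T adj O s L') := by
  have h1 : IsIso ((𝟭 C).map e.hom) := by rw [Functor.id_map]; infer_instance
  have h2 : IsIso ((𝟭 C).map (ddualMap T adj O e.hom)) := by rw [Functor.id_map]; infer_instance
  have h := isIso_map_kappa_iff (R := 𝟭 C) T adj O s hs₁ hs₂ e.hom h1 h2
  rwa [Functor.id_map, Functor.id_map] at h

end Local

end Groth.Agent.Lib.Helper2.Dual
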