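import Groth.Agent.Lib.Helper2.Dual.SheafDD
import Groth.Agent.Lib.Helper17.LocFreeOps

/-!
# Commutation of `ℋom(F, -)` with `- ⊗ D` for `D` finite locally free; relative Ext sheaves (helper2)
-/

set_option autoImplicit false
universe u
open CategoryTheory CategoryTheory.Limits AlgebraicGeometry TopologicalSpace Opposite

namespace Groth.Agent.Lib.Helper2.Dual

open Groth.Agent.Lib.Helper2.RHom Groth.Agent.Lib.Helper2.Mon Groth.Agent.Lib.Helper2.TAssoc
  Groth.Agent.Lib.Helper2.ExtShCoh Groth.Agent.Lib.Helper2.Stk Groth.Agent.Lib.Helper13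

variable {X : Scheme.{u}}

/-- `(- ⊗ D) ⊗ E ≅ (- ⊗ E) ⊗ D` -/
noncomputable def tensorCommIso (D E : X.Modules) :
    (TT X).obj D ⋙ (TT X).obj E ≅ (TT X).obj E ⋙ (TT X).obj D :=
  aa X D E ≪≫ (TT X).mapIso (ss X D E) ≪≫ (aa X E D).symm

/-- `ℋom(F, - ⊗ D) ≅ ℋom(F, -) ⊗ D` for `D` finite locally free -/
noncomputable def tensorHomCommIso (F D : X.Modules) (hD : FlatMod.IsFinLocFree D) :
    (TT X).obj D ⋙ HH X F ≅ HH X F ⋙ (TT X).obj D :=
  Functor.isoWhiskerRight (tensorIsoHomDual D hD) (HH X F) ≪≫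
    (sheafHomTensorIso F (dualM X D)).symm ≪≫
    sheafHomIsoOfIso (ss X F (dualM X D)) ≪≫
    sheafHomTensorIso (dualM X D) F ≪≫
    Functor.isoWhiskerLeft (HH X F) (tensorIsoHomDual D hD).symm

/-- `- ⊗ L^∨` preserves injectives -/
theorem injective_tensor_dual (L : X.Modules) (hL : FlatMod.IsFinLocFree L) (I : X.Modules)
    (hI : Injective I) : Injective (((TT X).obj (dualM X L)).obj I) := by
  haveI h1 : PreservesFiniteLimits ((TT X).obj L) := pfl_TT L hL
  haveI h2 : ((TT X).obj L).PreservesMonomorphisms := inferInstance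
  haveI h3 : Injective ((HH X L).obj I) := Injective.injective_of_adjoint (adjH X L) I
  exact Injective.of_iso ((dualIso L hL).app I).symm h3

end Groth.Agent.Lib.Helper2.Dual

namespace Groth.Agent.Lib.Helper2.Dual

open Groth.Agent.Lib.Helper2.RHom Groth.Agent.Lib.Helper2.Mon Groth.Agent.Lib.Helper2.TAssoc
  Groth.Agent.Lib.Helper2.ExtShCoh Groth.Agent.Lib.Helper2.Stk Groth.Agent.Lib.Helper13

variable {X : Scheme.{u}}

/-- relative Ext sheaves: `ℰxt^p_f(F ⊗ L, G ⊗ f^*N) ≅ ℰxt^p_f(F, G ⊗ L^∨) ⊗ N` -/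
theorem nonempty_relExt_iso {Y : Scheme.{u}} (f : X ⟶ Y) (F G L : X.Modules) (N : Y.Modules)
    (hL : FlatMod.IsFinLocFree L) (hN : FlatMod.IsFinLocFree N) (p : ℕ)
    [HasInjectiveResolutions X.Modules]
    [(HH X F ⋙ Scheme.Modules.pushforward f).Additive]
    [(HH X (CohB1.tensorMod F L) ⋙ Scheme.Modules.pushforward f).Additive] :
    Nonempty (((HH X (CohB1.tensorMod F L) ⋙ Scheme.Modules.pushforward f).rightDerived p).obj
        (CohB1.tensorMod G ((Scheme.Modules.pullback f).obj N)) ≅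
      CohB1.tensorMod (((HH X F ⋙ Scheme.Modules.pushforward f).rightDerived p).obj
        (CohB1.tensorMod G (dualM X L))) N) := by
  let D : X.Modules := (Scheme.Modules.pullback f).obj N
  have hD : FlatMod.IsFinLocFree D :=
    Groth.Agent.Lib.Helper17.LocFreeOps.isFinLocFree_pullback f N hN
  let P : X.Modules ⥤ Y.Modules := Scheme.Modules.pushforward f
  let Ψ : X.Modules ⥤ Y.Modules := HH X F ⋙ P
  let TD : X.Modules ⥤ X.Modules := (TT X).obj D
  let TLd : X.Modules ⥤ X.Modules := (TT X).obj (dualM X L)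
  let TN : Y.Modules ⥤ Y.Modules := (TT Y).obj N
  haveI i0 : Ψ.Additive := ‹(HH X F ⋙ Scheme.Modules.pushforward f).Additive›
  haveI i1 : PreservesFiniteLimits TLd := pfl_TT_dual L hL
  haveI i2 : PreservesFiniteLimits TD := pfl_TT D hD
  haveI i3 : PreservesFiniteLimits TN := pfl_TT N hN
  haveI i4 : TLd.Additive := additive_TT_obj _
  haveI i5 : TD.Additive := additive_TT_obj _
  haveI i6 : TN.Additive := additive_TT_obj _
  haveI i7 : PreservesFiniteColimits TLd := pfc_TT_obj _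
  haveI i8 : PreservesFiniteColimits TD := pfc_TT_obj _
  haveI i9 : PreservesFiniteColimits TN := pfc_TT_obj _
  let e₁ : HH X (CohB1.tensorMod F L) ⋙ P ≅ TLd ⋙ Ψ :=
    Functor.isoWhiskerRight (sheafHomTensorIso F L ≪≫
      Functor.isoWhiskerRight (dualIso L hL).symm (HH X F)) P ≪≫ Functor.associator _ _ _
  let a1 := (DerivedCommute.rightDerivedIsoOfNatIso e₁ p).app (CohB1.tensorMod G D)
  let a2 := (DerivedCommute.rightDerivedExactCompIso TLd (injective_tensor_dual L hL) Ψ p).app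
    (CohB1.tensorMod G D)
  let a3 := (Ψ.rightDerived p).mapIso ((tensorCommIso D (dualM X L)).app G)
  let a4 := ((DerivedCommute.rightDerivedExactCompIso TD (injective_tensor D hD) Ψ p).app
    (TLd.obj G)).symm
  let e₄ : TD ⋙ Ψ ≅ Ψ ⋙ TN :=
    (Functor.associator _ _ _).symm ≪≫ Functor.isoWhiskerRight (tensorHomCommIso F D hD) P ≪≫
      Functor.associator _ _ _ ≪≫
      Functor.isoWhiskerLeft (HH X F) (ProjFormulaLF.projNatIso f N hN).symm ≪≫
      (Functor.associator _ _ _).symm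
  let a5 := (DerivedCommute.rightDerivedIsoOfNatIso e₄ p).app (TLd.obj G)
  let a6 := (DerivedCommute.rightDerivedCompExactIso Ψ TN p).app (TLd.obj G)
  exact ⟨a1 ≪≫ a2 ≪≫ a3 ≪≫ a4 ≪≫ a5 ≪≫ a6⟩

end Groth.Agent.Lib.Helper2.Dual
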