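import Groth.Agent.Lib.Helper2.Dual.AbstractDD
import Groth.Agent.Lib.Helper2.Dual.Ext
import Groth.Agent.Lib.Helper26.HomLF

/-!
# The double dual of a finite locally free module (helper2)

* `ddualIso L hL : L ≅ L^∨∨`, `isFinLocFree_dualM`.
* `tensorIsoHomDual E hE : - ⊗ E ≅ ℋom(E^∨, -)`; `injective_tensor`.
-/

set_option autoImplicit false
universe u
open CategoryTheory CategoryTheory.Limits AlgebraicGeometry TopologicalSpace Opposite

namespace Groth.Agent.Lib.Helper2.Dual

open Groth.Agent.Lib.Helper2.RHom Groth.Agent.Lib.Helper2.Mon Groth.Agent.Lib.Helper2.TAssoc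
  Groth.Agent.Lib.Helper2.ExtShCoh Groth.Agent.Lib.Helper2.Stk Groth.Agent.Lib.Helper13

attribute [local instance] Abelian.hasFiniteBiproducts

variable (X : Scheme.{u})

/-- the braiding -/
noncomputable def ss (A B : X.Modules) : ((TT X).obj B).obj A ≅ ((TT X).obj A).obj B :=
  Groth.Agent.Lib.Helper2.Mon.braidIso (X := X) B A

lemma ss_nat₁ {A A' : X.Modules} (f : A ⟶ A') (B : X.Modules) :
    ((TT X).obj B).map f ≫ (ss X A' B).hom = (ss X A B).hom ≫ ((TT X).map f).app B :=
  braidIso_nat₂ (X := X) B f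

lemma ss_nat₂ (A : X.Modules) {B B' : X.Modules} (g : B ⟶ B') :
    ((TT X).map g).app A ≫ (ss X A B').hom = (ss X A B).hom ≫ ((TT X).obj A).map g :=
  braidIso_nat₁ (X := X) g A

/-- the canonical map to the double dual -/
noncomputable def kappaM (L : X.Modules) : L ⟶ dualM X (dualM X L) :=
  kappa (TT X) (adjH X) (OO X) (ss X) L

variable {X}

theorem isIso_kappaM_unit : IsIso (kappaM X (OO X)) :=
  isIso_kappa_unit (TT X) (adjH X) (OO X) (ss X) (rho X)

theorem isIso_kappaM_freeMod (n : ℕ) : IsIso (kappaM X (FlatMod.freeMod X n)) := by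
  have h1 : IsIso (kappaM X (⨁ fun _ : Fin n => OO X)) :=
    isIso_kappa_of_isBilimit (TT X) (adjH X) (TT_map_add X) (OO X) (ss X) (ss_nat₁ X) (ss_nat₂ X)
      (biproduct.bicone _) (biproduct.isBilimit _) (fun _ => isIso_kappaM_unit)
  exact (isIso_kappa_iff_of_iso (TT X) (adjH X) (OO X) (ss X) (ss_nat₁ X) (ss_nat₂ X)
    (biproduct.isoCoproduct _)).1 h1

variable (V : X.Opens)

/-- the canonical map to the double dual is invertible over an open where `L` is free -/
theorem isIso_jst_kappaM_of_free (L : X.Modules) (n : ℕ)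
    (e : (jst V).obj L ≅ FlatMod.freeMod (V : Scheme.{u}) n) :
    IsIso ((jst V).map (kappaM X L)) := by
  let M : X.Modules := (jsh V).obj ((jst V).obj L)
  let f₁ : M ⟶ L := (adjV V).counit.app L
  let f₂ : M ⟶ FlatMod.freeMod X n :=
    (jsh V).map (e.hom ≫ (PerfFree.restrictFreeModIso V.ι n).inv) ≫
      (adjV V).counit.app (FlatMod.freeMod X n)
  haveI h₁ : IsIso ((jst V).map f₁) := isIso_restrict_counit V L
  haveI h₂ : IsIso ((jst V).map f₂) := by
    show IsIso ((jst V).map (_ ≫ _))
    rw [Functor.map_comp]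
    infer_instance
  have key : ∀ {L₁ L₂ : X.Modules} (f : L₁ ⟶ L₂) [IsIso ((jst V).map f)],
      IsIso ((jst V).map (kappaM X L₁)) ↔ IsIso ((jst V).map (kappaM X L₂)) := by
    intro L₁ L₂ f hf
    haveI := isIso_whiskerLeft_jsh V f
    haveI hg : IsIso ((jst V).map (dualMap (TT X) (adjH X) (OO X) f)) :=
      isIso_map_Hmap (TT X) (adjH X) (adjV V) f (OO X)
    haveI := isIso_whiskerLeft_jsh V (dualMap (TT X) (adjH X) (OO X) f)
    have hgg : IsIso ((jst V).map (ddualMap (TT X) (adjH X) (OO X) f)) :=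
      isIso_map_Hmap (TT X) (adjH X) (adjV V) (dualMap (TT X) (adjH X) (OO X) f) (OO X)
    exact isIso_map_kappa_iff (TT X) (adjH X) (OO X) (ss X) (ss_nat₁ X) (ss_nat₂ X) f hf hgg
  have h3 : IsIso ((jst V).map (kappaM X (FlatMod.freeMod X n))) := by
    haveI := isIso_kappaM_freeMod (X := X) n
    infer_instance
  exact (key f₁).1 ((key f₂).2 h3)

/-- the canonical map `L ⟶ L^∨∨` is invertible for `L` finite locally free -/
theorem isIso_kappaM (L : X.Modules) (hL : FlatMod.IsFinLocFree L) : IsIso (kappaM X L) := by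
  haveI : ∀ x : X, IsIso ((Φ x).map (kappaM X L)) := by
    intro x
    obtain ⟨V, n, hx, ⟨e⟩⟩ := hL x
    haveI := isIso_jst_kappaM_of_free V L n e
    exact isIso_stalk_of_isIso_restrict V _ ⟨x, hx⟩
  exact jointlyReflectIsomorphisms_Φ.isIso _

/-- `L ≅ L^∨∨` for `L` finite locally free -/
noncomputable def ddualIso (L : X.Modules) (hL : FlatMod.IsFinLocFree L) :
    L ≅ dualM X (dualM X L) :=
  haveI := isIso_kappaM L hL
  asIso (kappaM X L)

/-- the dual of a finite locally free module is finite locally free -/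
theorem isFinLocFree_dualM (L : X.Modules) (hL : FlatMod.IsFinLocFree L) :
    FlatMod.IsFinLocFree (dualM X L) := by
  intro x
  obtain ⟨V, n, hx, ⟨e⟩⟩ := hL x
  refine ⟨V, n, hx, ⟨?_⟩⟩
  exact Groth.Agent.Lib.Helper26.HomLF.restrictSheafHomIso L (OO X) V n e ≪≫
    biproduct.mapIso (fun _ => Scheme.Modules.restrictUnitIso V.ι) ≪≫ biproduct.isoCoproduct _

/-- `- ⊗ E ≅ ℋom(E^∨, -)` for `E` finite locally free -/
noncomputable def tensorIsoHomDual (E : X.Modules) (hE : FlatMod.IsFinLocFree E) :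
    (TT X).obj E ≅ HH X (dualM X E) :=
  (TT X).mapIso (ddualIso E hE) ≪≫ dualIso (dualM X E) (isFinLocFree_dualM E hE)

/-- `I ⊗ E` is injective for `I` injective and `E` finite locally free -/
theorem injective_tensor (E : X.Modules) (hE : FlatMod.IsFinLocFree E) (I : X.Modules)
    (hI : Injective I) : Injective (((TT X).obj E).obj I) := by
  haveI h1 : PreservesFiniteLimits ((TT X).obj (dualM X E)) :=
    pfl_TT (dualM X E) (isFinLocFree_dualM E hE)
  haveI h2 : ((TT X).obj (dualM X E)).PreservesMonomorphisms := inferInstance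
  haveI h3 : Injective ((HH X (dualM X E)).obj I) :=
    Injective.injective_of_adjoint (adjH X (dualM X E)) I
  exact Injective.of_iso ((tensorIsoHomDual E hE).app I).symm h3

end Groth.Agent.Lib.Helper2.Dual
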